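import Groth.Prelude.Def_RDerDelta
import Mathlib.Algebra.Homology.HomologySequence
import Mathlib.CategoryTheory.Abelian.Injective.Resolution
import Mathlib.CategoryTheory.Abelian.Refinements
import Mathlib.Algebra.Homology.SingleHomology

/-!
# The horseshoe lemma for injective resolutions
-/

set_option autoImplicit false

universe v u

open CategoryTheory CategoryTheory.Limits HomologicalComplex

namespace GrothLib.RDerLES

variable {C : Type u} [Category.{v} C] [Abelian C]

/-- The augmentation of an injective resolution, with source the resolved object itself. -/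
noncomputable def aug {X : C} (I : InjectiveResolution X) : X ⟶ I.cocomplex.X 0 := I.ι.f 0

instance mono_aug {X : C} (I : InjectiveResolution X) : Mono (aug I) := inferInstanceAs (Mono (I.ι.f 0))

@[reassoc (attr := simp)]
theorem aug_d {X : C} (I : InjectiveResolution X) : aug I ≫ I.cocomplex.d 0 1 = 0 :=
  I.ι_f_zero_comp_complex_d

theorem aug_exact {X : C} (I : InjectiveResolution X) : (ShortComplex.mk _ _ (aug_d I)).Exact :=
  I.exact₀

theorem exists_twist_step {X₁ X₃ : C} (I₁ : InjectiveResolution X₁) (I₃ : InjectiveResolution X₃) {n : ℕ}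
    (t : I₃.cocomplex.X n ⟶ I₁.cocomplex.X (n + 1)) (t' : I₃.cocomplex.X (n + 1) ⟶ I₁.cocomplex.X (n + 2))
    (h : I₃.cocomplex.d n (n + 1) ≫ t' = -(t ≫ I₁.cocomplex.d (n + 1) (n + 2))) :
    ∃ t'' : I₃.cocomplex.X (n + 2) ⟶ I₁.cocomplex.X (n + 3),
      I₃.cocomplex.d (n + 1) (n + 2) ≫ t'' = -(t' ≫ I₁.cocomplex.d (n + 2) (n + 3)) :=
  ⟨(I₃.exact_succ n).descToInjective _ (by
      dsimp
      rw [Preadditive.comp_neg, ← Category.assoc, h, Preadditive.neg_comp, Category.assoc,
        HomologicalComplex.d_comp_d, comp_zero, neg_zero, neg_zero]),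
    (I₃.exact_succ n).comp_descToInjective _ _⟩

theorem exists_twist {X₁ X₂ X₃ : C} (I₁ : InjectiveResolution X₁) (I₃ : InjectiveResolution X₃)
    (f : X₁ ⟶ X₂) (g : X₂ ⟶ X₃) (w : f ≫ g = 0) (hS : (ShortComplex.mk f g w).ShortExact) :
    ∃ (e : X₂ ⟶ I₁.cocomplex.X 0) (τ : ∀ n, I₃.cocomplex.X n ⟶ I₁.cocomplex.X (n + 1)),
      f ≫ e = aug I₁ ∧
      e ≫ I₁.cocomplex.d 0 1 + g ≫ aug I₃ ≫ τ 0 = 0 ∧
      ∀ n, I₃.cocomplex.d n (n + 1) ≫ τ (n + 1) = -(τ n ≫ I₁.cocomplex.d (n + 1) (n + 2)) := by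
  have : Mono f := hS.mono_f
  have : Epi g := hS.epi_g
  let e : X₂ ⟶ I₁.cocomplex.X 0 := Injective.factorThru (aug I₁) f
  have he : f ≫ e = aug I₁ := Injective.comp_factorThru _ _
  let w' := hS.exact.desc (e ≫ I₁.cocomplex.d 0 1)
    (by rw [reassoc_of% he]; exact aug_d I₁)
  have hw' : g ≫ w' = e ≫ I₁.cocomplex.d 0 1 := hS.exact.g_desc _ _
  let τ₀ : I₃.cocomplex.X 0 ⟶ I₁.cocomplex.X 1 := Injective.factorThru (-w') (aug I₃)
  have hτ₀ : aug I₃ ≫ τ₀ = -w' := Injective.comp_factorThru _ _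
  let St (n : ℕ) : Type v := { t : I₃.cocomplex.X n ⟶ I₁.cocomplex.X (n + 1) //
    ∃ t', I₃.cocomplex.d n (n + 1) ≫ t' = -(t ≫ I₁.cocomplex.d (n + 1) (n + 2)) }
  have h₀ : ∃ t', I₃.cocomplex.d 0 1 ≫ t' = -(τ₀ ≫ I₁.cocomplex.d 1 2) := by
    have hzero : aug I₃ ≫ (-(τ₀ ≫ I₁.cocomplex.d 1 2)) = 0 := by
      refine (cancel_epi g).1 ?_
      rw [Preadditive.comp_neg, ← Category.assoc, hτ₀, Preadditive.neg_comp, neg_neg, ← Category.assoc, hw',
        Category.assoc, HomologicalComplex.d_comp_d, comp_zero, comp_zero]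
    exact ⟨(aug_exact I₃).descToInjective _ hzero, (aug_exact I₃).comp_descToInjective _ _⟩
  let σ : ∀ n, St n := fun n => Nat.rec (motive := St) ⟨τ₀, h₀⟩
    (fun n s => ⟨s.2.choose, exists_twist_step I₁ I₃ s.1 _ s.2.choose_spec⟩) n
  refine ⟨e, fun n => (σ n).1, he, ?_, fun n => (σ n).2.choose_spec⟩
  change e ≫ _ + g ≫ aug I₃ ≫ τ₀ = 0
  rw [hτ₀, Preadditive.comp_neg, hw', add_neg_cancel]

theorem exists_sesRes {X₁ X₂ X₃ : C} (I₁ : InjectiveResolution X₁) (I₃ : InjectiveResolution X₃)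
    (f : X₁ ⟶ X₂) (g : X₂ ⟶ X₃) (w : f ≫ g = 0) (hS : (ShortComplex.mk f g w).ShortExact) :
    Nonempty (RDer.SESRes (ShortComplex.mk f g w)) := by
  obtain ⟨e, τ, he, he', hτ⟩ := exists_twist I₁ I₃ f g w hS
  have : Mono f := hS.mono_f
  let I₂ : CochainComplex C ℕ := CochainComplex.of (fun n => I₁.cocomplex.X n ⊞ I₃.cocomplex.X n)
    (fun n => biprod.desc (biprod.lift (I₁.cocomplex.d n (n + 1)) 0)
      (biprod.lift (τ n) (I₃.cocomplex.d n (n + 1))))
    (fun n => by
      ext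
      · simp
      · simp
      · simp [hτ n]
        exact add_neg_cancel _
      · simp)
  have hd : ∀ n, I₂.d n (n + 1) = biprod.desc (biprod.lift (I₁.cocomplex.d n (n + 1)) 0)
      (biprod.lift (τ n) (I₃.cocomplex.d n (n + 1))) := fun n => by simp [I₂]
  let F : I₁.cocomplex ⟶ I₂ :=
    { f := fun n => biprod.inl
      comm' := fun i j h => by
        obtain rfl : i + 1 = j := h
        rw [hd]; ext <;> simp }
  let G : I₂ ⟶ I₃.cocomplex :=
    { f := fun n => biprod.snd
      comm' := fun i j h => by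
        obtain rfl : i + 1 = j := h
        rw [hd]; ext <;> simp }
  have hFG : F ≫ G = 0 := by ext n; simp [F, G]
  have hFGs : (ShortComplex.mk F G hFG).ShortExact :=
    HomologicalComplex.shortExact_of_degreewise_shortExact _ (fun n =>
      (ShortComplex.Splitting.ofHasBinaryBiproduct (I₁.cocomplex.X n) (I₃.cocomplex.X n)).shortExact)
  let ι₂ : (CochainComplex.single₀ C).obj X₂ ⟶ I₂ :=
    (CochainComplex.fromSingle₀Equiv _ _).symm ⟨biprod.lift e (g ≫ aug I₃), by
      rw [hd]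
      ext
      · simpa using he'
      · simp⟩
  have hι₂ : ι₂.f 0 = biprod.lift e (g ≫ aug I₃) := CochainComplex.fromSingle₀Equiv_symm_apply_f_zero _ _
  have hmono : Mono (biprod.lift e (g ≫ aug I₃)) := Preadditive.mono_of_cancel_zero _ fun a ha => by
    have h1 : a ≫ e = 0 := by simpa using congrArg (· ≫ biprod.fst) ha
    have h2 : a ≫ g = 0 := by
      rw [← cancel_mono (aug I₃), Category.assoc, zero_comp]
      simpa using congrArg (· ≫ biprod.snd) ha
    have h3 : hS.exact.lift a h2 ≫ aug I₁ = 0 := by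
      rw [← he, ← Category.assoc, ShortComplex.Exact.lift_f]; exact h1
    rw [← hS.exact.lift_f a h2,
      (cancel_mono (aug I₁)).1 (h3.trans zero_comp.symm), zero_comp]
  have hexact : (ShortComplex.mk (biprod.lift e (g ≫ aug I₃)) (I₂.d 0 1) (by
      have := ι₂.comm 0 1
      rw [HomologicalComplex.single_obj_d, zero_comp, hι₂] at this
      exact this)).Exact := by
    rw [ShortComplex.exact_iff_exact_up_to_refinements]
    intro A x hx
    dsimp at x hx
    replace hx : x ≫ biprod.desc (biprod.lift (I₁.cocomplex.d 0 1) 0) (biprod.lift (τ 0) (I₃.cocomplex.d 0 1)) = 0 :=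
      (congrArg (x ≫ ·) (hd 0)).symm.trans hx
    have hx₃ : (x ≫ biprod.snd) ≫ I₃.cocomplex.d 0 1 = 0 := by
      have := congrArg (· ≫ biprod.snd) hx
      simpa [biprod.desc_eq] using this
    obtain ⟨z, hz⟩ : ∃ z : A ⟶ X₃, z ≫ aug I₃ = x ≫ biprod.snd :=
      ⟨(aug_exact I₃).lift _ hx₃, ShortComplex.Exact.lift_f _ _ _⟩
    obtain ⟨A', π, hπ, y, hy⟩ := (haveI : Epi g := hS.epi_g; surjective_up_to_refinements_of_epi g z)
    have hx₁ : (π ≫ x ≫ biprod.fst - y ≫ e) ≫ I₁.cocomplex.d 0 1 = 0 := by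
      have h1 := congrArg (fun t => π ≫ t ≫ biprod.fst) hx
      simp [biprod.desc_eq] at h1
      have h2 : y ≫ g ≫ aug I₃ ≫ τ 0 = π ≫ x ≫ biprod.snd ≫ τ 0 := by
        rw [← reassoc_of% hy, reassoc_of% hz]
      have h3 : y ≫ e ≫ I₁.cocomplex.d 0 1 = -(y ≫ g ≫ aug I₃ ≫ τ 0) := by
        rw [eq_neg_iff_add_eq_zero, ← Preadditive.comp_add, he', comp_zero]
      simp only [Preadditive.sub_comp, Category.assoc, h3, h2, sub_neg_eq_add]
      exact h1
    obtain ⟨q, hq⟩ : ∃ q : A' ⟶ X₁, q ≫ aug I₁ = π ≫ x ≫ biprod.fst - y ≫ e :=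
      ⟨(aug_exact I₁).lift _ hx₁, ShortComplex.Exact.lift_f _ _ _⟩
    refine ⟨A', π, hπ, y + q ≫ f, ?_⟩
    dsimp
    ext
    · simp [he, hq]
    · simp [reassoc_of% w, ← hz, reassoc_of% hy]
  have hq : QuasiIso ι₂ := ⟨fun n => by
    cases n with
    | zero =>
      rw [CochainComplex.quasiIsoAt₀_iff, ShortComplex.quasiIso_iff_of_zeros]
      · refine (ShortComplex.exact_and_mono_f_iff_of_iso ?_).2 ⟨hexact, hmono⟩
        exact ShortComplex.isoMk (Iso.refl _) (Iso.refl _) (Iso.refl _) (by simp [hι₂]; exact (Category.id_comp _).trans (Category.comp_id _).symm)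
          (by simp; exact (Category.id_comp _).trans (Category.comp_id _).symm)
      all_goals rfl
    | succ n =>
      rw [quasiIsoAt_iff_exactAt _ _ (CochainComplex.exactAt_succ_single_obj _ _),
        HomologicalComplex.exactAt_iff_isZero_homology]
      exact (hFGs.homology_exact₂ (n + 1)).isZero_of_both_zeros
        (((HomologicalComplex.exactAt_iff_isZero_homology _ _).1 (I₁.cocomplex_exactAt_succ n)).eq_of_src _ _)
        (((HomologicalComplex.exactAt_iff_isZero_homology _ _).1 (I₃.cocomplex_exactAt_succ n)).eq_of_tgt _ _)⟩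
  let R₂ : InjectiveResolution X₂ :=
    { cocomplex := I₂
      injective := fun n => inferInstanceAs (Injective (I₁.cocomplex.X n ⊞ I₃.cocomplex.X n))
      ι := ι₂ }
  exact ⟨{ I₁ := I₁, I₂ := R₂, I₃ := I₃, f := F, g := G, zero := hFG
           ι_f := HomologicalComplex.from_single_hom_ext (by
             simp [R₂, F, hι₂]; ext <;> simp [he, reassoc_of% w] <;> rfl)
           ι_g := HomologicalComplex.from_single_hom_ext (by simp [R₂, G, hι₂]; rfl)
           shortExact := hFGs }⟩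

theorem nonempty_sesRes [HasInjectiveResolutions C] {S : ShortComplex C} (hS : S.ShortExact) :
    Nonempty (RDer.SESRes S) :=
  exists_sesRes (injectiveResolution S.X₁) (injectiveResolution S.X₃) S.f S.g S.zero hS

end GrothLib.RDerLES
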