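import Groth.Agent.Lib.RDerLES.Indep
import Groth.Agent.Lib.RDerLES.Horseshoe

/-!
# The long exact sequence of right derived functors
-/

set_option autoImplicit false

universe v u v' u'

open CategoryTheory CategoryTheory.Limits HomologicalComplex

namespace GrothLib.RDerLES

variable {C : Type u} [Category.{v} C] [Abelian C] [HasInjectiveResolutions C]
  {D : Type u'} [Category.{v'} D] [Abelian D] (F : C ⥤ D) [F.Additive]
  {S : ShortComplex C} (T : RDer.SESRes S)

theorem sqf (n : ℕ) : (F.rightDerived n).map S.f ≫ (T.I₂.isoRightDerivedObj F n).hom =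
    (T.I₁.isoRightDerivedObj F n).hom ≫ homologyMap ((F.mapHomologicalComplex _).map T.f) n :=
  InjectiveResolution.isoRightDerivedObj_hom_naturality S.f T.I₁ T.I₂ T.f (zero_comm T.ι_f) F n

theorem sqg (n : ℕ) : (F.rightDerived n).map S.g ≫ (T.I₃.isoRightDerivedObj F n).hom =
    (T.I₂.isoRightDerivedObj F n).hom ≫ homologyMap ((F.mapHomologicalComplex _).map T.g) n :=
  InjectiveResolution.isoRightDerivedObj_hom_naturality S.g T.I₂ T.I₃ T.g (zero_comm T.ι_g) F n

theorem comp_delta (n₀ n₁ : ℕ) (h : n₀ + 1 = n₁) :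
    (F.rightDerived n₀).map S.g ≫ T.delta F n₀ n₁ h = 0 := by
  rw [← cancel_mono (T.I₁.isoRightDerivedObj F n₁).hom, Category.assoc, zero_comp,
    RDer.SESRes.delta_comp_isoRightDerivedObj_hom]
  exact ((Category.assoc _ _ _).symm.trans ((congrArg (· ≫ _) (sqg F T n₀)).trans (Category.assoc _ _ _))).trans
    ((congrArg ((T.I₂.isoRightDerivedObj F n₀).hom ≫ ·) ((T.map_shortExact F).comp_δ n₀ n₁ h)).trans comp_zero)

theorem delta_comp (n₀ n₁ : ℕ) (h : n₀ + 1 = n₁) :
    T.delta F n₀ n₁ h ≫ (F.rightDerived n₁).map S.f = 0 := by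
  rw [← cancel_mono (T.I₂.isoRightDerivedObj F n₁).hom, Category.assoc, zero_comp, sqf F T n₁]
  exact (Category.assoc _ _ _).symm.trans <| ((congrArg (· ≫ _) (T.delta_comp_isoRightDerivedObj_hom F n₀ n₁ h)).trans (Category.assoc _ _ _)).trans
    ((congrArg ((T.I₃.isoRightDerivedObj F n₀).hom ≫ ·) ((T.map_shortExact F).δ_comp n₀ n₁ h)).trans comp_zero)

include T in
theorem exact₂ (n : ℕ) : (ShortComplex.mk ((F.rightDerived n).map S.f) ((F.rightDerived n).map S.g)
    (by rw [← Functor.map_comp, S.zero, Functor.map_zero])).Exact :=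
  (ShortComplex.exact_iff_of_iso (ShortComplex.isoMk (T.I₁.isoRightDerivedObj F n)
    (T.I₂.isoRightDerivedObj F n) (T.I₃.isoRightDerivedObj F n) (sqf F T n).symm (sqg F T n).symm)).2
    ((T.map_shortExact F).homology_exact₂ n)

theorem exact₃ (n₀ n₁ : ℕ) (h : n₀ + 1 = n₁) :
    (ShortComplex.mk _ _ (comp_delta F T n₀ n₁ h)).Exact :=
  (ShortComplex.exact_iff_of_iso (ShortComplex.isoMk (T.I₂.isoRightDerivedObj F n₀)
    (T.I₃.isoRightDerivedObj F n₀) (T.I₁.isoRightDerivedObj F n₁) (sqg F T n₀).symm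
    (T.delta_comp_isoRightDerivedObj_hom F n₀ n₁ h).symm)).2
    ((T.map_shortExact F).homology_exact₃ n₀ n₁ h)

theorem exact₁ (n₀ n₁ : ℕ) (h : n₀ + 1 = n₁) :
    (ShortComplex.mk _ _ (delta_comp F T n₀ n₁ h)).Exact :=
  (ShortComplex.exact_iff_of_iso (ShortComplex.isoMk (T.I₃.isoRightDerivedObj F n₀)
    (T.I₁.isoRightDerivedObj F n₁) (T.I₂.isoRightDerivedObj F n₁)
    (T.delta_comp_isoRightDerivedObj_hom F n₀ n₁ h).symm (sqf F T n₁).symm)).2
    ((T.map_shortExact F).homology_exact₁ n₀ n₁ h)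

theorem nonempty_derivedLES : Nonempty (RDer.DerivedLES F) := by
  let R : ∀ (S : ShortComplex C), S.ShortExact → RDer.SESRes S := fun S hS => (nonempty_sesRes hS).some
  exact ⟨{ δ := fun S hS n₀ n₁ h => (R S hS).delta F n₀ n₁ h
           δ_eq := fun S hS T n₀ n₁ h => delta_eq F _ T n₀ n₁ h
           δ_natural := fun hS hS' φ n₀ n₁ h => delta_natural F φ _ _ n₀ n₁ h
           exact₂ := fun S hS n => exact₂ F (R S hS) n
           comp_δ := fun S hS n₀ n₁ h => comp_delta F (R S hS) n₀ n₁ h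
           exact₃ := fun S hS n₀ n₁ h => exact₃ F (R S hS) n₀ n₁ h
           δ_comp := fun S hS n₀ n₁ h => delta_comp F (R S hS) n₀ n₁ h
           exact₁ := fun S hS n₀ n₁ h => exact₁ F (R S hS) n₀ n₁ h }⟩

end GrothLib.RDerLES
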