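import Groth.Agent.Lib.RDerLES.LES
import Groth.Agent.Lib.DerCat.DimShiftRD

/-!
# Derived functors of a composition with an exact functor sending injectives to acyclic objects
-/

set_option autoImplicit false

universe v u v' u' v'' u''

open CategoryTheory CategoryTheory.Limits

noncomputable section

namespace GrothLib.RDerLES

variable {A : Type u} [Category.{v} A] [Abelian A] [EnoughInjectives A]
  {B : Type u'} [Category.{v'} B] [Abelian B] [EnoughInjectives B]
  {C : Type u''} [Category.{v''} C] [Abelian C]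

/-- `R^q (G ∘ P) = R^q G ∘ P` when `P` is exact and sends injectives to `G`-acyclic objects. -/
theorem nonempty_rightDerived_comp_iso (P : A ⥤ B) [P.Additive] [PreservesFiniteLimits P]
    [PreservesFiniteColimits P] (G : B ⥤ C) [G.Additive] [PreservesFiniteLimits G]
    (h : ∀ (J : A), Injective J → ∀ k : ℕ, IsZero ((G.rightDerived (k + 1)).obj (P.obj J))) (q : ℕ) :
    ∀ F : A, Nonempty (((P ⋙ G).rightDerived q).obj F ≅ (G.rightDerived q).obj (P.obj F)) := by
  haveI : PreservesFiniteLimits (P ⋙ G) := comp_preservesFiniteLimits _ _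
  induction q with
  | zero => exact fun F => ⟨(P ⋙ G).rightDerivedZeroIsoSelf.app F ≪≫ (G.rightDerivedZeroIsoSelf.app (P.obj F)).symm⟩
  | succ q ih =>
    intro F
    have hS := ShortComplex.ShortExact.mk' (S := ShortComplex.mk (Injective.ι F) (cokernel.π _) (cokernel.condition _))
      (ShortComplex.exact_of_g_is_cokernel _ (cokernelIsCokernel _)) inferInstance inferInstance
    have hJ : Injective (Injective.under F) := inferInstance
    obtain ⟨T⟩ := nonempty_sesRes (hS.map_of_exact P)
    haveI : Injective (ShortComplex.mk (Injective.ι F) (cokernel.π _) (cokernel.condition _)).X₂ := hJ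
    cases q with
    | zero =>
      haveI : Epi (ShortComplex.mk _ _ (comp_delta G T 0 1 rfl)).g :=
        (exact₁ G T 0 1 rfl).epi_f ((h _ hJ 0).eq_of_tgt _ _)
      exact ⟨HomGamma.shiftIsoOne hS (P ⋙ G) ≪≫
        cokernel.mapIso _ ((G.rightDerived 0).map (P.map (cokernel.π (Injective.ι F))))
          (G.rightDerivedZeroIsoSelf.app _).symm (G.rightDerivedZeroIsoSelf.app _).symm
          ((G.rightDerivedZeroIsoSelf.inv.naturality (P.map (cokernel.π (Injective.ι F))))) ≪≫
        (cokernelIsCokernel _).coconePointUniqueUpToIso (exact₃ G T 0 1 rfl).gIsCokernel⟩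
    | succ q =>
      obtain ⟨e⟩ := ih (cokernel (Injective.ι F))
      haveI : Epi (T.delta G (q + 1) (q + 2) rfl) := (exact₁ G T (q + 1) (q + 2) rfl).epi_f ((h _ hJ (q + 1)).eq_of_tgt _ _)
      haveI : Mono (T.delta G (q + 1) (q + 2) rfl) := (exact₃ G T (q + 1) (q + 2) rfl).mono_g ((h _ hJ q).eq_of_src _ _)
      have hi : IsIso (T.delta G (q + 1) (q + 2) rfl) := isIso_of_mono_of_epi _
      exact ⟨HomGamma.shiftIso hS (P ⋙ G) q ≪≫ e ≪≫ @asIso _ _ _ _ (T.delta G (q + 1) (q + 2) rfl) hi⟩

end GrothLib.RDerLES
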