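import Groth.Prelude.Def_RDerDelta
import Mathlib.Algebra.Homology.HomologySequenceLemmas
import Mathlib.CategoryTheory.Abelian.Injective.Resolution
import Mathlib.Algebra.Homology.SingleHomology

/-!
# Connecting morphisms of right derived functors do not depend on the resolution
-/

set_option autoImplicit false

universe v u v' u'

open CategoryTheory CategoryTheory.Limits HomologicalComplex

namespace GrothLib.RDerLES

variable {C : Type u} [Category.{v} C] [Abelian C] {D : Type u'} [Category.{v'} D] [Abelian D]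

theorem zero_comm {Y Z : C} {I : InjectiveResolution Y} {J : InjectiveResolution Z} {f : Y ⟶ Z}
    {φ : I.cocomplex ⟶ J.cocomplex} (h : I.ι ≫ φ = (CochainComplex.single₀ C).map f ≫ J.ι) :
    I.ι.f 0 ≫ φ.f 0 = f ≫ J.ι.f 0 := by
  have := congrArg (fun ψ => ψ.f 0) h
  simpa using this

theorem epi_g {S : ShortComplex C} (T : RDer.SESRes S) : Epi S.g := by
  have h1 : IsZero (T.cx.X₁.homology 1) :=
    (HomologicalComplex.exactAt_iff_isZero_homology _ _).1 (T.I₁.cocomplex_exactAt_succ 0)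
  have : Epi (homologyMap T.cx.g 0) :=
    (ShortComplex.exact_iff_epi _ (h1.eq_of_tgt _ _)).1 (T.shortExact.homology_exact₃ 0 1 rfl)
  have hq2 : IsIso (homologyMap T.I₂.ι 0) :=
    (quasiIsoAt_iff_isIso_homologyMap _ _).1 inferInstance
  have hq3 : IsIso (homologyMap T.I₃.ι 0) :=
    (quasiIsoAt_iff_isIso_homologyMap _ _).1 inferInstance
  have h2 : Epi (homologyMap ((CochainComplex.single₀ C).map S.g) 0 ≫ homologyMap T.I₃.ι 0) := by
    rw [← homologyMap_comp, ← T.ι_g, homologyMap_comp]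
    exact epi_comp _ _
  have h3 : Epi (homologyMap ((CochainComplex.single₀ C).map S.g) 0) := by
    have := epi_comp (homologyMap ((CochainComplex.single₀ C).map S.g) 0 ≫ homologyMap T.I₃.ι 0)
      (inv (homologyMap T.I₃.ι 0))
    simpa using this
  have h4 := singleObjHomologySelfIso_hom_naturality (ComplexShape.up ℕ) 0 S.g
  have h5 : Epi ((singleObjHomologySelfIso (ComplexShape.up ℕ) 0 S.X₂).hom ≫ S.g) := by
    rw [← h4]; exact epi_comp _ _
  exact epi_of_epi (singleObjHomologySelfIso (ComplexShape.up ℕ) 0 S.X₂).hom S.g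

/-- A morphism of short complexes lifts to a morphism of their resolutions. -/
theorem exists_hom {S S' : ShortComplex C} (φ : S ⟶ S') (T : RDer.SESRes S) (T' : RDer.SESRes S') :
    ∃ u : T.cx ⟶ T'.cx, T.I₁.ι.f 0 ≫ u.τ₁.f 0 = φ.τ₁ ≫ T'.I₁.ι.f 0 ∧
      T.I₃.ι.f 0 ≫ u.τ₃.f 0 = φ.τ₃ ≫ T'.I₃.ι.f 0 := by
  have := epi_g T
  have := T.shortExact.epi_g
  let u₁ := InjectiveResolution.desc φ.τ₁ T'.I₁ T.I₁
  let v := InjectiveResolution.desc φ.τ₂ T'.I₂ T.I₂
  have hu₁ : T.I₁.ι ≫ u₁ = (CochainComplex.single₀ C).map φ.τ₁ ≫ T'.I₁.ι :=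
    InjectiveResolution.desc_commutes _ _ _
  have hv : T.I₂.ι ≫ v = (CochainComplex.single₀ C).map φ.τ₂ ≫ T'.I₂.ι :=
    InjectiveResolution.desc_commutes _ _ _
  let H := InjectiveResolution.descHomotopy (φ.τ₁ ≫ S'.f) (T.f ≫ v) (u₁ ≫ T'.f)
    (by rw [← Category.assoc, T.ι_f, Category.assoc, hv, φ.comm₁₂, Functor.map_comp, Category.assoc])
    (by rw [← Category.assoc, hu₁, Category.assoc, T'.ι_f, Functor.map_comp, Category.assoc])
  let k : ∀ i j, T.I₂.cocomplex.X i ⟶ T'.I₂.cocomplex.X j := fun i j => (T.splitting i).r ≫ H.hom i j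
  have hk : T.f ≫ Homotopy.nullHomotopicMap k = T.f ≫ v - u₁ ≫ T'.f := by
    rw [Homotopy.comp_nullHomotopicMap]
    have e : (fun i j => T.f.f i ≫ k i j) = H.hom := by
      funext i j
      exact (T.splitting i).f_r_assoc _
    rw [e]
    ext i
    simp only [HomologicalComplex.sub_f_apply]
    rw [H.comm i]
    simp [Homotopy.nullHomotopicMap]
  have hk0 : T.I₂.ι ≫ Homotopy.nullHomotopicMap k = 0 := by
    rw [Homotopy.comp_nullHomotopicMap]
    apply HomologicalComplex.from_single_hom_ext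
    have hz : H.hom 0 ((ComplexShape.up ℕ).prev 0) = 0 :=
      H.zero _ _ (by simp)
    simp only [Homotopy.nullHomotopicMap, HomologicalComplex.zero_f]
    rw [dNext_eq _ (show (ComplexShape.up ℕ).Rel 0 1 by rfl)]
    simp [prevD, k]
    exact zero_add _
  let u₂ := v - Homotopy.nullHomotopicMap k
  have hf : T.f ≫ u₂ = u₁ ≫ T'.f := by simp only [u₂, Preadditive.comp_sub, hk]; abel
  have hu₂ : T.I₂.ι ≫ u₂ = (CochainComplex.single₀ C).map φ.τ₂ ≫ T'.I₂.ι := by
    simp only [u₂, Preadditive.comp_sub, hk0, hv, sub_zero]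
  have hz : T.f ≫ u₂ ≫ T'.g = 0 := by rw [← Category.assoc, hf, Category.assoc, T'.zero, comp_zero]
  let u₃ := T.shortExact.exact.desc (u₂ ≫ T'.g) hz
  have hg : T.g ≫ u₃ = u₂ ≫ T'.g := T.shortExact.exact.g_desc _ _
  refine ⟨ShortComplex.homMk u₁ u₂ u₃ hf.symm hg.symm, zero_comm hu₁, ?_⟩
  have hg0 : T.g.f 0 ≫ u₃.f 0 = u₂.f 0 ≫ T'.g.f 0 := by
    rw [← HomologicalComplex.comp_f, hg, HomologicalComplex.comp_f]
  refine (cancel_epi S.g).1 ?_
  change S.g ≫ T.I₃.ι.f 0 ≫ u₃.f 0 = _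
  refine (Category.assoc _ _ _).symm.trans (((reassoc_of% (zero_comm T.ι_g)) _).symm.trans ((congrArg (T.I₂.ι.f 0 ≫ ·) hg0).trans ?_))
  refine (((reassoc_of% (zero_comm hu₂)) _).trans (Category.assoc _ _ _)).trans ((congrArg (φ.τ₂ ≫ ·) (zero_comm T'.ι_g)).trans ?_)
  exact φ.comm₂₃_assoc _

/-- Naturality of the connecting morphism computed from resolutions. -/
theorem delta_natural [HasInjectiveResolutions C] (F : C ⥤ D) [F.Additive] {S S' : ShortComplex C}
    (φ : S ⟶ S') (T : RDer.SESRes S) (T' : RDer.SESRes S') (n₀ n₁ : ℕ) (h : n₀ + 1 = n₁) :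
    (F.rightDerived n₀).map φ.τ₃ ≫ T'.delta F n₀ n₁ h = T.delta F n₀ n₁ h ≫ (F.rightDerived n₁).map φ.τ₁ := by
  obtain ⟨u, h₁, h₃⟩ := exists_hom φ T T'
  have key := HomologicalComplex.HomologySequence.δ_naturality
    ((F.mapHomologicalComplex (ComplexShape.up ℕ)).mapShortComplex.map u)
    (T.map_shortExact F) (T'.map_shortExact F) n₀ n₁ h
  rw [← cancel_mono (T'.I₁.isoRightDerivedObj F n₁).hom, Category.assoc, Category.assoc,
    RDer.SESRes.delta_comp_isoRightDerivedObj_hom,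
    InjectiveResolution.isoRightDerivedObj_hom_naturality φ.τ₁ T.I₁ T'.I₁ u.τ₁ h₁ F n₁,
    RDer.SESRes.delta_comp_isoRightDerivedObj_hom_assoc]
  erw [reassoc_of% (InjectiveResolution.isoRightDerivedObj_hom_naturality φ.τ₃ T.I₃ T'.I₃ u.τ₃ h₃ F n₀)]
  exact (congrArg (fun x => (T.I₃.isoRightDerivedObj F n₀).hom ≫ x) key.symm).trans (Category.assoc _ _ _).symm

theorem delta_eq [HasInjectiveResolutions C] (F : C ⥤ D) [F.Additive] {S : ShortComplex C}
    (T T' : RDer.SESRes S) (n₀ n₁ : ℕ) (h : n₀ + 1 = n₁) :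
    T.delta F n₀ n₁ h = T'.delta F n₀ n₁ h := by
  have := delta_natural F (𝟙 S) T T' n₀ n₁ h
  simpa using this.symm

end GrothLib.RDerLES
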